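import Cfsg.Agent.H32.GTwoRec.Ident
import Cfsg.Agent.H58.GTwoInvolFinal
import Cfsg.Agent.H38.GTwoRec.Gen
import Cfsg.Agent.H4.GTwoTop

/-!
The 3-local identification of `G₂(3)`: a group with a configuration is `G₂` over three elements.

The opposite long root elements span short subgroups of the centraliser of `t₁`, so they commute
with `X_a` and its opposite; the group generated by the root elements is then `G₂(3)` and contains
the centraliser of `t₁`, hence is everything.
-/

set_option autoImplicit false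
set_option linter.unusedSectionVars false
set_option linter.style.haveILetI false

namespace Cfsg.Agent.H4.GTwoGlue

open Subgroup
open Cfsg.Agent.H32.GTwoRec
open Cfsg.Agent.H58.GTwoInvol

universe u

variable {G : Type u} [Group G] [Finite G] {c : Cfg G}

/-- An opposite long root element spans a short subgroup. -/
theorem short_zpowers {z : G} (h : IsOppLong c z) : Short c (zpowers z) := by
  haveI : Fact (Nat.Prime 3) := ⟨Nat.prime_three⟩
  have h1 : z ≠ 1 := fun e => h.not_mem (e ▸ one_mem _)
  have hz : orderOf z = 3 := orderOf_eq_prime h.cube h1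
  refine ⟨?_, ?_, fun e => h.not_mem (e ▸ mem_zpowers z), ?_, ?_⟩
  · exact zpowers_le.2 (mem_centralizer_singleton_iff.2 (mul_inv_eq_iff_eq_mul.1 h.fix).symm)
  · rw [Nat.card_zpowers, hz]
  · refine mem_normalizer_of_conj fun x hx => ?_
    obtain ⟨n, rfl⟩ := mem_zpowers_iff.1 hx
    rw [← conj_zpow, h.inv]
    exact zpow_mem (inv_mem (mem_zpowers z)) n
  · obtain ⟨g, hg⟩ := h.conj
    have e : zpowers (g * z * g⁻¹) = c.D₁ := by
      refine eq_of_le_of_card_ge (zpowers_le.2 hg) ?_
      rw [c.toHyp.cardD₁, Nat.card_zpowers, orderOf_eq_prime (by rw [conj_pow, h.cube]; group)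
        (fun e => h1 (conj_eq_one_iff.1 e))]
    refine ⟨g⁻¹, ?_⟩
    rw [← e, MonoidHom.map_zpowers]
    congr 1
    simp [mul_assoc]

/-- The opposite long root elements commute with `X_a` and its opposite. -/
theorem oppComm (c : Cfg G) : c.OppComm := fun z hz v hv => by
  obtain ⟨e₁, e₂⟩ := short_comm' c (short_zpowers hz) (mem_zpowers z) hv
  exact ⟨e₁.symm, e₂.symm⟩

/-- The centraliser of `t₁` lies in the group generated by the root elements. -/
theorem centralizer_le_K (F : Frame c) : centralizer ({c.t₁} : Set G) ≤ F.K := by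
  have hA : c.A₁ ≤ F.K := Cfsg.Agent.H38.GTwoRec.A₁_le_of_weyl c F.xa_mem F.xa_ne F.hna F.Q₁_le_K
    (F.x_mem 7) F.na_mem F.t₂_memK
  refine (C_le' c (short_zpowers F.bot_isOppLong)).trans (sup_le (inf_le_left.trans hA) ?_)
  exact zpowers_le.2 (F.x_mem 0)

theorem orderOf_t₁ (c : Cfg G) : orderOf c.t₁ = 2 := by
  haveI : Fact (Nat.Prime 2) := ⟨Nat.prime_two⟩
  refine orderOf_eq_prime (by rw [pow_two, c.t₁_sq]) fun e => c.t₁_ne ?_
  exact e ▸ one_mem _

/-- A group with a configuration is `G₂` over the field of three elements. -/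
theorem nonempty_iso (c : Cfg G) {L : Type*} [Field L] [Fintype L] (hL : Fintype.card L = 3) :
    Nonempty (G ≃* ↥(Cfsg.Lie.G2 L)) := by
  obtain ⟨F⟩ := c.exists_frame
  obtain ⟨φ, hr, hi⟩ := F.exists_hom (oppComm c) (oppComm c.swap) hL
  have e : F.K ≃* ↥(Cfsg.Lie.G2 L) :=
    ((MonoidHom.ofInjective hi).trans (MulEquiv.subgroupCongr hr)).symm
  have htop := Cfsg.Agent.H4.GTwoTop.top_of_centralizer_G2 hL F.K e (orderOf_t₁ c) F.t₁_memK
    (centralizer_le_K F)
  exact ⟨(Subgroup.topEquiv.symm.trans (MulEquiv.subgroupCongr htop.symm)).trans e⟩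

/-- The same from the hypotheses alone. -/
theorem nonempty_iso_of_hyp (h : Hyp G) {L : Type*} [Field L] [Fintype L]
    (hL : Fintype.card L = 3) : Nonempty (G ≃* ↥(Cfsg.Lie.G2 L)) := by
  obtain ⟨c, -⟩ := h.exists_cfg
  exact nonempty_iso c hL

end Cfsg.Agent.H4.GTwoGlue
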